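import Mathlib
import Cfsg.Agent.Lib.Helper56.TCPerm
import Cfsg.Agent.Lib.Helper56.TCFast
import Cfsg.Agent.Lib.Helper56.Fi22S.OD0
set_option autoImplicit false
set_option maxRecDepth 1000000

namespace Cfsg.Agent.Lib.Helper56.Fi22S

open Cfsg.Agent.Lib.Helper56.TC Cfsg.Agent.Lib.Helper56.TC.Tabs

noncomputable def o0A : List (List ℕ) := [o0A0]

noncomputable def o0I : List (List ℕ) := [o0I0]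

/-- generator words of the orbit certificate -/
noncomputable def o0W : List (List ℕ) := [[0],
    [1],
    [2],
    [3],
    [4],
    [5],
    [6],
    [7],
    [8]]

/-- an orbit certificate -/
noncomputable def o0R : Orb where
  m := 3510
  ng := 9
  gw := fun j => nthL o0W j
  par := fldA o0A 585 28 268435455 12 4095
  gen := fldA o0A 585 28 268435455 24 15
  O := fldA o0A 585 28 268435455 0 4095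
  Inv := fldA o0I 1365 12 4095 0 4095

noncomputable def o1A : List (List ℕ) := [o1A0]

noncomputable def o1I : List (List ℕ) := [o1I0]

/-- generator words of the orbit certificate -/
noncomputable def o1W : List (List ℕ) := [[3, 4, 2, 3, 7, 8, 2, 3, 4, 1, 2, 3, 7, 6, 5, 4, 3, 2, 1, 0, 1, 2, 3, 4, 5, 6, 7, 3, 2, 1, 4, 3, 2, 8, 7, 3, 2, 4, 3],
    [7, 8, 3, 4, 1, 2, 3, 7, 5, 4, 3, 2, 1, 0, 1, 2, 3, 4, 5, 7, 3, 2, 1, 4, 3, 8, 7],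
    [7, 4, 5, 3, 4, 2, 3, 7, 8, 2, 3, 4, 1, 2, 3, 7, 6, 5, 4, 3, 2, 1, 0, 1, 2, 3, 4, 5, 6, 7, 3, 2, 1, 4, 3, 2, 8, 7, 3, 2, 4, 3, 5, 4, 7],
    [7, 5, 3, 4, 2, 3, 7, 8, 1, 2, 3, 7, 6, 5, 4, 3, 2, 1, 0, 1, 2, 3, 4, 5, 6, 7, 3, 2, 1, 8, 7, 3, 2, 4, 3, 5, 7],
    [4, 5, 3, 4, 2, 3, 7, 8, 7, 4, 5, 3, 4, 1, 2, 3, 7, 6, 5, 4, 3, 2, 1, 0, 1, 2, 3, 4, 5, 6, 7, 3, 2, 1, 4, 3, 5, 4, 7, 8, 7, 3, 2, 4, 3, 5, 4],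
    [7, 8, 3, 7, 1, 2, 3, 4, 0, 1, 2, 3, 7, 8, 3, 7, 5, 2, 3, 4, 1, 2, 3, 7, 6, 5, 4, 3, 2, 1, 0, 1, 2, 3, 4, 5, 6, 7, 3, 2, 1, 4, 3, 2, 5, 7, 3, 8, 7, 3, 2, 1, 0, 4, 3, 2, 1, 7, 3, 8, 7],
    [2, 3, 7, 6, 4, 5, 3, 4, 2, 3, 7, 8, 2, 3, 4, 1, 2, 3, 7, 6, 5, 4, 3, 2, 1, 0, 1, 2, 3, 4, 5, 6, 7, 3, 2, 1, 4, 3, 2, 8, 7, 3, 2, 4, 3, 5, 4, 6, 7, 3, 2],
    [8, 7, 6, 4, 5, 3, 4, 2, 3, 7, 8, 4, 5, 2, 3, 4, 1, 2, 3, 7, 6, 5, 4, 3, 2, 1, 0, 1, 2, 3, 4, 5, 6, 7, 3, 2, 1, 4, 3, 2, 5, 4, 8, 7, 3, 2, 4, 3, 5, 4, 6, 7, 8],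
    [5, 4, 2, 3, 7, 8, 7, 5, 2, 3, 4, 1, 2, 3, 7, 6, 5, 4, 3, 2, 1, 0, 1, 2, 3, 4, 5, 6, 7, 3, 2, 1, 4, 3, 2, 5, 7, 8, 7, 3, 2, 4, 5],
    [7, 3, 4, 2, 3, 7, 8, 3, 7, 4, 5, 3, 4, 1, 2, 3, 7, 6, 5, 4, 3, 2, 1, 0, 1, 2, 3, 4, 5, 6, 7, 3, 2, 1, 4, 3, 5, 4, 7, 3, 8, 7, 3, 2, 4, 3, 7],
    [7, 8, 3, 7, 4, 5, 3, 4, 2, 3, 7, 8, 7, 4, 5, 3, 4, 1, 2, 3, 7, 6, 5, 4, 3, 2, 1, 0, 1, 2, 3, 4, 5, 6, 7, 3, 2, 1, 4, 3, 5, 4, 7, 8, 7, 3, 2, 4, 3, 5, 4, 7, 3, 8, 7]]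

/-- an orbit certificate -/
noncomputable def o1R : Orb where
  m := 2816
  ng := 11
  gw := fun j => nthL o1W j
  par := fldA o1A 585 28 268435455 12 4095
  gen := fldA o1A 585 28 268435455 24 15
  O := fldA o1A 585 28 268435455 0 4095
  Inv := fldA o1I 1365 12 4095 0 4095

noncomputable def o2A : List (List ℕ) := [o2A0]

noncomputable def o2I : List (List ℕ) := [o2I0]

/-- generator words of the orbit certificate -/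
noncomputable def o2W : List (List ℕ) := [[7, 4, 5, 2, 3, 4, 1, 2, 3, 7, 6, 5, 4, 3, 2, 1, 0, 1, 2, 3, 4, 5, 6, 7, 3, 2, 1, 4, 3, 2, 5, 4, 7],
    [3, 7, 8, 3, 7, 5, 2, 3, 4, 1, 2, 3, 7, 6, 5, 4, 3, 2, 1, 0, 1, 2, 3, 4, 5, 6, 7, 3, 2, 1, 4, 3, 2, 5, 7, 3, 8, 7, 3],
    [4, 3, 7, 8, 7, 4, 5, 2, 3, 4, 1, 2, 3, 7, 6, 5, 4, 3, 2, 1, 0, 1, 2, 3, 4, 5, 6, 7, 3, 2, 1, 4, 3, 2, 5, 4, 7, 8, 7, 3, 4],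
    [6, 5, 4, 2, 3, 7, 8, 1, 2, 3, 7, 4, 3, 2, 1, 0, 1, 2, 3, 4, 7, 3, 2, 1, 8, 7, 3, 2, 4, 5, 6],
    [6, 5, 4, 3, 7, 8, 5, 2, 3, 4, 1, 2, 3, 7, 6, 5, 4, 3, 2, 1, 0, 1, 2, 3, 4, 5, 6, 7, 3, 2, 1, 4, 3, 2, 5, 8, 7, 3, 4, 5, 6],
    [5, 4, 2, 3, 7, 8, 1, 2, 3, 7, 4, 3, 2, 1, 0, 1, 2, 3, 4, 7, 3, 2, 1, 8, 7, 3, 2, 4, 5]]

/-- an orbit certificate -/
noncomputable def o2R : Orb where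
  m := 567
  ng := 6
  gw := fun j => nthL o2W j
  par := fldA o2A 655 25 33554431 12 1023
  gen := fldA o2A 655 25 33554431 22 7
  O := fldA o2A 655 25 33554431 0 4095
  Inv := fldA o2I 1638 10 1023 0 1023

noncomputable def o3A : List (List ℕ) := [o3A0]

noncomputable def o3I : List (List ℕ) := [o3I0]

/-- generator words of the orbit certificate -/
noncomputable def o3W : List (List ℕ) := [[8, 3, 7, 2, 3, 4, 1, 2, 3, 7, 6, 5, 4, 3, 2, 1, 0, 1, 2, 3, 4, 5, 6, 7, 3, 2, 1, 4, 3, 2, 7, 3, 8],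
    [8, 3, 4, 5, 2, 3, 4, 1, 2, 3, 7, 6, 5, 4, 3, 2, 1, 0, 1, 2, 3, 4, 5, 6, 7, 3, 2, 1, 4, 3, 2, 5, 4, 3, 8],
    [5, 4, 3, 7, 2, 3, 4, 1, 2, 3, 7, 5, 4, 3, 2, 1, 0, 1, 2, 3, 4, 5, 7, 3, 2, 1, 4, 3, 2, 7, 3, 4, 5],
    [7, 3, 4, 2, 3, 7, 8, 1, 2, 3, 7, 4, 3, 2, 1, 0, 1, 2, 3, 4, 7, 3, 2, 1, 8, 7, 3, 2, 4, 3, 7],
    [6, 5, 6],
    [8, 7, 8]]

/-- an orbit certificate -/
noncomputable def o3R : Orb where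
  m := 320
  ng := 6
  gw := fun j => nthL o3W j
  par := fldA o3A 682 24 16777215 12 511
  gen := fldA o3A 682 24 16777215 21 7
  O := fldA o3A 682 24 16777215 0 4095
  Inv := fldA o3I 1820 9 511 0 511

noncomputable def o4A : List (List ℕ) := [o4A0]

noncomputable def o4I : List (List ℕ) := [o4I0]

/-- generator words of the orbit certificate -/
noncomputable def o4W : List (List ℕ) := [[5, 4, 5],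
    [8],
    [8, 7, 8],
    [4]]

/-- an orbit certificate -/
noncomputable def o4R : Orb where
  m := 36
  ng := 4
  gw := fun j => nthL o4W j
  par := fldA o4A 819 20 1048575 12 63
  gen := fldA o4A 819 20 1048575 18 3
  O := fldA o4A 819 20 1048575 0 4095
  Inv := fldA o4I 2730 6 63 0 63

noncomputable def oAA : List (List ℕ) := [oAA0]

noncomputable def oAI : List (List ℕ) := [oAI0]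

/-- generator words of the orbit certificate -/
noncomputable def oAW : List (List ℕ) := [[3, 4, 2, 3, 7, 8, 2, 3, 4, 1, 2, 3, 7, 6, 5, 4, 3, 2, 1, 0, 1, 2, 3, 4, 5, 6, 7, 3, 2, 1, 4, 3, 2, 8, 7, 3, 2, 4, 3],
    [7, 8, 3, 4, 1, 2, 3, 7, 5, 4, 3, 2, 1, 0, 1, 2, 3, 4, 5, 7, 3, 2, 1, 4, 3, 8, 7],
    [7, 4, 5, 3, 4, 2, 3, 7, 8, 2, 3, 4, 1, 2, 3, 7, 6, 5, 4, 3, 2, 1, 0, 1, 2, 3, 4, 5, 6, 7, 3, 2, 1, 4, 3, 2, 8, 7, 3, 2, 4, 3, 5, 4, 7],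
    [7, 5, 3, 4, 2, 3, 7, 8, 1, 2, 3, 7, 6, 5, 4, 3, 2, 1, 0, 1, 2, 3, 4, 5, 6, 7, 3, 2, 1, 8, 7, 3, 2, 4, 3, 5, 7],
    [4, 5, 3, 4, 2, 3, 7, 8, 7, 4, 5, 3, 4, 1, 2, 3, 7, 6, 5, 4, 3, 2, 1, 0, 1, 2, 3, 4, 5, 6, 7, 3, 2, 1, 4, 3, 5, 4, 7, 8, 7, 3, 2, 4, 3, 5, 4],
    [7, 8, 3, 7, 1, 2, 3, 4, 0, 1, 2, 3, 7, 8, 3, 7, 5, 2, 3, 4, 1, 2, 3, 7, 6, 5, 4, 3, 2, 1, 0, 1, 2, 3, 4, 5, 6, 7, 3, 2, 1, 4, 3, 2, 5, 7, 3, 8, 7, 3, 2, 1, 0, 4, 3, 2, 1, 7, 3, 8, 7],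
    [2, 3, 7, 6, 4, 5, 3, 4, 2, 3, 7, 8, 2, 3, 4, 1, 2, 3, 7, 6, 5, 4, 3, 2, 1, 0, 1, 2, 3, 4, 5, 6, 7, 3, 2, 1, 4, 3, 2, 8, 7, 3, 2, 4, 3, 5, 4, 6, 7, 3, 2],
    [8, 7, 6, 4, 5, 3, 4, 2, 3, 7, 8, 4, 5, 2, 3, 4, 1, 2, 3, 7, 6, 5, 4, 3, 2, 1, 0, 1, 2, 3, 4, 5, 6, 7, 3, 2, 1, 4, 3, 2, 5, 4, 8, 7, 3, 2, 4, 3, 5, 4, 6, 7, 8],
    [5, 4, 2, 3, 7, 8, 7, 5, 2, 3, 4, 1, 2, 3, 7, 6, 5, 4, 3, 2, 1, 0, 1, 2, 3, 4, 5, 6, 7, 3, 2, 1, 4, 3, 2, 5, 7, 8, 7, 3, 2, 4, 5],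
    [7, 3, 4, 2, 3, 7, 8, 3, 7, 4, 5, 3, 4, 1, 2, 3, 7, 6, 5, 4, 3, 2, 1, 0, 1, 2, 3, 4, 5, 6, 7, 3, 2, 1, 4, 3, 5, 4, 7, 3, 8, 7, 3, 2, 4, 3, 7],
    [7, 8, 3, 7, 4, 5, 3, 4, 2, 3, 7, 8, 7, 4, 5, 3, 4, 1, 2, 3, 7, 6, 5, 4, 3, 2, 1, 0, 1, 2, 3, 4, 5, 6, 7, 3, 2, 1, 4, 3, 5, 4, 7, 8, 7, 3, 2, 4, 3, 5, 4, 7, 3, 8, 7]]

/-- an orbit certificate -/
noncomputable def oAR : Orb where
  m := 693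
  ng := 11
  gw := fun j => nthL oAW j
  par := fldA oAA 630 26 67108863 12 1023
  gen := fldA oAA 630 26 67108863 22 15
  O := fldA oAA 630 26 67108863 0 4095
  Inv := fldA oAI 1638 10 1023 0 1023

/-- a word of order 13 -/
noncomputable def wy : List ℕ := [7, 5, 4, 3, 5, 2, 1, 3, 6, 7, 8, 4, 3]

end Cfsg.Agent.Lib.Helper56.Fi22S
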