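import Mathlib
import Cfsg.Agent.Lib.Helper56.TCPerm
import Cfsg.Agent.Lib.Helper56.Fi22a.Cert
import Cfsg.Agent.Lib.Helper56.Fi22S.OrbD
set_option autoImplicit false
set_option maxRecDepth 1000000

namespace Cfsg.Agent.Lib.Helper56.Fi22S

open Cfsg.Agent.Lib.Helper56.TC Cfsg.Agent.Lib.Helper56.TC.Tabs

theorem o0_c0 : allRange (fun x => forceN (chkOrb Fi22a.T o0R 0) x) 0 3510 = true := by decide +kernel
theorem o1_c0 : allRange (fun x => forceN (chkOrb Fi22a.T o1R 1) x) 0 2238 = true := by decide +kernel
theorem o1_c2238 : allRange (fun x => forceN (chkOrb Fi22a.T o1R 1) x) 2238 578 = true := by decide +kernel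
theorem o2_c0 : allRange (fun x => forceN (chkOrb Fi22a.T o2R 3) x) 0 567 = true := by decide +kernel
theorem o3_c0 : allRange (fun x => forceN (chkOrb Fi22a.T o3R 151) x) 0 320 = true := by decide +kernel
theorem o4_c0 : allRange (fun x => forceN (chkOrb Fi22a.T o4R 703) x) 0 36 = true := by decide +kernel
theorem oA_c0 : allRange (fun x => forceN (chkOrb Fi22a.T oAR 6) x) 0 693 = true := by decide +kernel
theorem cover_c0 : allRange (fun x => forceN (fun y => Nat.beq y 0 || (inOrb oAR y || inOrb o1R y)) x) 0 3510 = true := by decide +kernel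
theorem py_c0 : allRange (fun x => forceN (chkPow Fi22a.T wy 13) x) 0 769 = true := by decide +kernel
theorem py_c769 : allRange (fun x => forceN (chkPow Fi22a.T wy 13) x) 769 769 = true := by decide +kernel

end Cfsg.Agent.Lib.Helper56.Fi22S
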