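import Mathlib
import Cfsg.Agent.Lib.Helper56.TCPerm
import Cfsg.Agent.Lib.Helper56.Fi22a.Cert
import Cfsg.Agent.Lib.Helper56.Fi22S.OrbD
set_option autoImplicit false
set_option maxRecDepth 1000000

namespace Cfsg.Agent.Lib.Helper56.Fi22S

open Cfsg.Agent.Lib.Helper56.TC Cfsg.Agent.Lib.Helper56.TC.Tabs

theorem py_c1538 : allRange (fun x => forceN (chkPow Fi22a.T wy 13) x) 1538 769 = true := by decide +kernel
theorem py_c2307 : allRange (fun x => forceN (chkPow Fi22a.T wy 13) x) 2307 769 = true := by decide +kernel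
theorem py_c3076 : allRange (fun x => forceN (chkPow Fi22a.T wy 13) x) 3076 434 = true := by decide +kernel
theorem pz_c0 : allRange (fun x => forceN (chkPow Fi22a.T (wy.reverse ++ [0]) 13) x) 0 769 = true := by decide +kernel
theorem pz_c769 : allRange (fun x => forceN (chkPow Fi22a.T (wy.reverse ++ [0]) 13) x) 769 769 = true := by decide +kernel
theorem pz_c1538 : allRange (fun x => forceN (chkPow Fi22a.T (wy.reverse ++ [0]) 13) x) 1538 769 = true := by decide +kernel
theorem pz_c2307 : allRange (fun x => forceN (chkPow Fi22a.T (wy.reverse ++ [0]) 13) x) 2307 769 = true := by decide +kernel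
theorem pz_c3076 : allRange (fun x => forceN (chkPow Fi22a.T (wy.reverse ++ [0]) 13) x) 3076 434 = true := by decide +kernel

end Cfsg.Agent.Lib.Helper56.Fi22S
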