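import Mathlib
import Cfsg.Agent.Lib.Helper56.TCPerm
import Cfsg.Agent.Lib.Helper56.Fi22a.Cert
import Cfsg.Agent.Lib.Helper56.Fi22S.OrbD
import Cfsg.Agent.Lib.Helper56.Fi22S.OrbC0
import Cfsg.Agent.Lib.Helper56.Fi22S.OrbC1
set_option autoImplicit false
set_option maxRecDepth 1000000

namespace Cfsg.Agent.Lib.Helper56.Fi22S

open Cfsg.Agent.Lib.Helper56.TC Cfsg.Agent.Lib.Helper56.TC.Tabs

theorem o0_u3510 : Upto (chkOrb Fi22a.T o0R 0) 3510 := upto_add (upto_zero (chkOrb Fi22a.T o0R 0)) rfl o0_c0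
theorem o0_all : ∀ x < 3510, (chkOrb Fi22a.T o0R 0) x = true := o0_u3510

theorem o0_hg : ∀ j < o0R.ng, (∀ a ∈ o0R.gw j, a < Fi22a.T.K) ∧
    ∀ b ∈ ([] : List ℕ), b < Fi22a.T.N ∧ Fi22a.T.followT (o0R.gw j) b = b := by decide +kernel

theorem o1_u2238 : Upto (chkOrb Fi22a.T o1R 1) 2238 := upto_add (upto_zero (chkOrb Fi22a.T o1R 1)) rfl o1_c0
theorem o1_u2816 : Upto (chkOrb Fi22a.T o1R 1) 2816 := upto_add o1_u2238 rfl o1_c2238
theorem o1_all : ∀ x < 2816, (chkOrb Fi22a.T o1R 1) x = true := o1_u2816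

theorem o1_hg : ∀ j < o1R.ng, (∀ a ∈ o1R.gw j, a < Fi22a.T.K) ∧
    ∀ b ∈ ([0] : List ℕ), b < Fi22a.T.N ∧ Fi22a.T.followT (o1R.gw j) b = b := by decide +kernel

theorem o2_u567 : Upto (chkOrb Fi22a.T o2R 3) 567 := upto_add (upto_zero (chkOrb Fi22a.T o2R 3)) rfl o2_c0
theorem o2_all : ∀ x < 567, (chkOrb Fi22a.T o2R 3) x = true := o2_u567

theorem o2_hg : ∀ j < o2R.ng, (∀ a ∈ o2R.gw j, a < Fi22a.T.K) ∧
    ∀ b ∈ ([1, 0] : List ℕ), b < Fi22a.T.N ∧ Fi22a.T.followT (o2R.gw j) b = b := by decide +kernel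

theorem o3_u320 : Upto (chkOrb Fi22a.T o3R 151) 320 := upto_add (upto_zero (chkOrb Fi22a.T o3R 151)) rfl o3_c0
theorem o3_all : ∀ x < 320, (chkOrb Fi22a.T o3R 151) x = true := o3_u320

theorem o3_hg : ∀ j < o3R.ng, (∀ a ∈ o3R.gw j, a < Fi22a.T.K) ∧
    ∀ b ∈ ([3, 1, 0] : List ℕ), b < Fi22a.T.N ∧ Fi22a.T.followT (o3R.gw j) b = b := by decide +kernel

theorem o4_u36 : Upto (chkOrb Fi22a.T o4R 703) 36 := upto_add (upto_zero (chkOrb Fi22a.T o4R 703)) rfl o4_c0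
theorem o4_all : ∀ x < 36, (chkOrb Fi22a.T o4R 703) x = true := o4_u36

theorem o4_hg : ∀ j < o4R.ng, (∀ a ∈ o4R.gw j, a < Fi22a.T.K) ∧
    ∀ b ∈ ([151, 3, 1, 0] : List ℕ), b < Fi22a.T.N ∧ Fi22a.T.followT (o4R.gw j) b = b := by decide +kernel

theorem oA_u693 : Upto (chkOrb Fi22a.T oAR 6) 693 := upto_add (upto_zero (chkOrb Fi22a.T oAR 6)) rfl oA_c0
theorem oA_all : ∀ x < 693, (chkOrb Fi22a.T oAR 6) x = true := oA_u693

theorem oA_hg : ∀ j < oAR.ng, (∀ a ∈ oAR.gw j, a < Fi22a.T.K) ∧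
    ∀ b ∈ ([0] : List ℕ), b < Fi22a.T.N ∧ Fi22a.T.followT (oAR.gw j) b = b := by decide +kernel

theorem cover_u3510 : Upto (fun y => Nat.beq y 0 || (inOrb oAR y || inOrb o1R y)) 3510 := upto_add (upto_zero (fun y => Nat.beq y 0 || (inOrb oAR y || inOrb o1R y))) rfl cover_c0
theorem cover_all : ∀ x < 3510, (fun y => Nat.beq y 0 || (inOrb oAR y || inOrb o1R y)) x = true := cover_u3510

theorem zeroA : inOrb oAR 0 = false := by decide +kernel
theorem zeroB : inOrb o1R 0 = false := by decide +kernel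
theorem cntA : countLt (inOrb oAR) Fi22a.T.N = 693 := by decide +kernel
theorem cntB : countLt (inOrb o1R) Fi22a.T.N = 2816 := by decide +kernel

theorem py_u769 : Upto (chkPow Fi22a.T wy 13) 769 := upto_add (upto_zero (chkPow Fi22a.T wy 13)) rfl py_c0
theorem py_u1538 : Upto (chkPow Fi22a.T wy 13) 1538 := upto_add py_u769 rfl py_c769
theorem py_u2307 : Upto (chkPow Fi22a.T wy 13) 2307 := upto_add py_u1538 rfl py_c1538
theorem py_u3076 : Upto (chkPow Fi22a.T wy 13) 3076 := upto_add py_u2307 rfl py_c2307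
theorem py_u3510 : Upto (chkPow Fi22a.T wy 13) 3510 := upto_add py_u3076 rfl py_c3076
theorem py_all : ∀ x < 3510, (chkPow Fi22a.T wy 13) x = true := py_u3510

theorem pz_u769 : Upto (chkPow Fi22a.T (wy.reverse ++ [0]) 13) 769 := upto_add (upto_zero (chkPow Fi22a.T (wy.reverse ++ [0]) 13)) rfl pz_c0
theorem pz_u1538 : Upto (chkPow Fi22a.T (wy.reverse ++ [0]) 13) 1538 := upto_add pz_u769 rfl pz_c769
theorem pz_u2307 : Upto (chkPow Fi22a.T (wy.reverse ++ [0]) 13) 2307 := upto_add pz_u1538 rfl pz_c1538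
theorem pz_u3076 : Upto (chkPow Fi22a.T (wy.reverse ++ [0]) 13) 3076 := upto_add pz_u2307 rfl pz_c2307
theorem pz_u3510 : Upto (chkPow Fi22a.T (wy.reverse ++ [0]) 13) 3510 := upto_add pz_u3076 rfl pz_c3076
theorem pz_all : ∀ x < 3510, (chkPow Fi22a.T (wy.reverse ++ [0]) 13) x = true := pz_u3510


end Cfsg.Agent.Lib.Helper56.Fi22S
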